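import Groth.Agent.Ega3B.CechFun
import Groth.Agent.Dcoh.HomColim
import Mathlib.CategoryTheory.Abelian.GrothendieckAxioms.Colim
import Mathlib.Algebra.Category.Grp.AB

/-!
# Čech cohomology of a finite family commutes with colimits of a given exact shape

`preserves_cechH`: if `G : K ⥤ (Cᵒᵖ ⥤ Ab)` is a functor such that the sections over all finite products
`∏ (U ∘ i)` commute with colimits of shape `J` and colimits of shape `J` are exact in `Ab`, then the Čech
cohomology functors of a finite family `U` commute with colimits of shape `J`.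
-/

set_option autoImplicit false
universe w v u v' u' v₁ u₁

open CategoryTheory CategoryTheory.Limits Opposite

namespace K152.CechColim

open Groth.Agent.Ega3B.CechFun

variable {C : Type u} [Category.{v} C] {K : Type u'} [Category.{v'} K]
variable (J : Type u₁) [Category.{v₁} J]

theorem preserves_prodFun {I : Type w} [Finite I] (V : I → C) (G : K ⥤ (Cᵒᵖ ⥤ AddCommGrpCat.{w}))
    [HasColimitsOfShape J AddCommGrpCat.{w}]
    (h : ∀ i, PreservesColimitsOfShape J (G ⋙ (evaluation _ _).obj (op (V i)))) :
    PreservesColimitsOfShape J (prodFun V G) := by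
  have h1 : PreservesColimitsOfShape J (discFun V G) := by
    apply preservesColimitsOfShape_of_evaluation
    rintro ⟨i⟩
    have := h i
    exact (inferInstance : PreservesColimitsOfShape J (G ⋙ (evaluation _ _).obj (op (V i))))
  have e : discFun V G ⋙ colim ≅ prodFun V G :=
    Functor.isoWhiskerLeft _ HasBiproductsOfShape.colimIsoLim ≪≫ prodFunIso V G
  exact preservesColimitsOfShape_of_natIso e

theorem preserves_cechFun_eval [HasFiniteProducts C] {κ : Type w} [Finite κ] (U : κ → C)
    (G : K ⥤ (Cᵒᵖ ⥤ AddCommGrpCat.{w})) [HasColimitsOfShape J AddCommGrpCat.{w}]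
    (h : ∀ (n : ℕ) (i : Fin (n + 1) → κ), PreservesColimitsOfShape J
      (G ⋙ (evaluation _ _).obj (op (∏ᶜ (U ∘ i) : C)))) (n : ℕ) :
    PreservesColimitsOfShape J (cechFun U G ⋙ HomologicalComplex.eval _ _ n) := by
  have : Finite (ToType (SimplexCategory.mk n) → κ) :=
    (inferInstance : Finite (Fin (n + 1) → κ))
  have := preserves_prodFun J (fun i : (ToType (SimplexCategory.mk n) → κ) =>
    (∏ᶜ (U ∘ i) : C)) G (fun i => h n i)
  exact preservesColimitsOfShape_of_natIso (cechFunEval U G n).symm

theorem preserves_of_eval {ι : Type*} (c : ComplexShape ι)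
    (Φ : K ⥤ HomologicalComplex AddCommGrpCat.{w} c)
    (h : ∀ n, PreservesColimitsOfShape J (Φ ⋙ HomologicalComplex.eval _ _ n)) :
    PreservesColimitsOfShape J Φ where
  preservesColimit {F} := ⟨fun {d} hd =>
    ⟨HomologicalComplex.isColimitOfEval _ _ fun n => by
      have := h n
      exact isColimitOfPreserves (Φ ⋙ HomologicalComplex.eval _ _ n) hd⟩⟩

/-- Čech cohomology of a finite family commutes with exact colimits. -/
theorem preserves_cechH [HasFiniteProducts C] {κ : Type w} [Finite κ] (U : κ → C)
    (G : K ⥤ (Cᵒᵖ ⥤ AddCommGrpCat.{w})) [HasColimitsOfShape J AddCommGrpCat.{w}]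
    [HasExactColimitsOfShape J AddCommGrpCat.{w}]
    (h : ∀ (n : ℕ) (i : Fin (n + 1) → κ), PreservesColimitsOfShape J
      (G ⋙ (evaluation _ _).obj (op (∏ᶜ (U ∘ i) : C)))) (q : ℕ) :
    PreservesColimitsOfShape J (cechFun U G ⋙ HomologicalComplex.homologyFunctor _ _ q) := by
  have := preserves_of_eval J _ (cechFun U G) (preserves_cechFun_eval J U G h)
  infer_instance

end K152.CechColim
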