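import Groth.Prelude.Def_EtCech
import Groth.Agent.CohtopB.SectColim
import Mathlib.Algebra.Homology.ShortComplex.Ab

/-!
# The Čech complex of a family over an object of a category, elementwise (arbitrary universes)

The constructions of `CohtopB.CechSite` for `EtCech.cechComplex` (no smallness hypothesis on the category):

* `cechπ`, `cech_ext`, `cech_exists`: coordinates of Čech cochains; `cech_d_π`: the differential.
* `isZero_cechH_iff`: elementwise form of the vanishing of Čech cohomology in positive degrees.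
* `isZero_cechH_quot`: short exact sequence with surjective sections on iterated fibre products.
* `surjective_of_cechH_one`: vanishing of `Ȟ¹` of the kernel gives surjectivity on sections.
-/

set_option autoImplicit false

universe w v u

open CategoryTheory Limits Opposite Simplicial

namespace K152.CechGen

open Groth.Agent.CohtopB.SectColim

/-- The map `ℤ → X` sending `1` to `x`. -/
noncomputable def ofElem {X : AddCommGrpCat.{w}} (x : X) : AddCommGrpCat.of (ULift.{w} ℤ) ⟶ X :=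
  AddCommGrpCat.ofHom ((zmultiplesHom X x).comp (AddEquiv.ulift : ULift.{w} ℤ ≃+ ℤ).toAddMonoidHom)

theorem ofElem_one {X : AddCommGrpCat.{w}} (x : X) : (ofElem x).hom (ULift.up 1) = x := by
  change (zmultiplesHom X x) 1 = x
  simp

theorem ofElem_comp {X Y : AddCommGrpCat.{w}} (x : X) (f : X ⟶ Y) : ofElem x ≫ f = ofElem (f.hom x) := by
  ext z
  obtain ⟨z⟩ := z
  change f.hom ((zmultiplesHom X x) z) = (zmultiplesHom Y (f.hom x)) z
  simp

theorem pi_ext {κ : Type*} {X : κ → AddCommGrpCat.{w}} [HasProduct X] (x y : (∏ᶜ X : AddCommGrpCat.{w}))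
    (h : ∀ a, (Pi.π X a).hom x = (Pi.π X a).hom y) : x = y := by
  have : ofElem x = ofElem y := by
    refine Pi.hom_ext _ _ fun a => ?_
    rw [ofElem_comp, ofElem_comp, h]
  rw [← ofElem_one x, this, ofElem_one]

theorem exists_pi {κ : Type*} {X : κ → AddCommGrpCat.{w}} [HasProduct X] (x : ∀ a, X a) :
    ∃ y : (∏ᶜ X : AddCommGrpCat.{w}), ∀ a, (Pi.π X a).hom y = x a := by
  refine ⟨(Pi.lift fun a => ofElem (x a)).hom (ULift.up 1), fun a => ?_⟩
  have : (Pi.lift fun a => ofElem (x a)) ≫ Pi.π X a = ofElem (x a) := Pi.lift_π _ _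
  exact (congrArg (fun t => AddCommGrpCat.Hom.hom t (ULift.up 1)) this).trans (ofElem_one _)

variable {C : Type u} [Category.{v} C] {U : C} [HasFiniteProducts (Over U)] {ι : Type w}

/-- The Čech complex of an abelian presheaf for a family over `U`. -/
noncomputable abbrev cechCx (P : Cᵒᵖ ⥤ AddCommGrpCat.{w}) (Y : ι → Over U) :
    CochainComplex AddCommGrpCat.{w} ℕ := EtCech.cechComplex Y P

/-- Functoriality of the Čech complex. -/
noncomputable abbrev cechCxMap {P Q : Cᵒᵖ ⥤ AddCommGrpCat.{w}} (φ : P ⟶ Q) (Y : ι → Over U) :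
    cechCx P Y ⟶ cechCx Q Y :=
  (cechComplexFunctor Y).map (Functor.whiskerLeft (Over.forget U).op φ)

/-- The projection of the Čech complex in degree `n` to the factor indexed by `a`. -/
noncomputable abbrev cechπ (P : Cᵒᵖ ⥤ AddCommGrpCat.{w}) (Y : ι → Over U) {n : ℕ}
    (a : Fin (n + 1) → ι) : (cechCx P Y).X n ⟶ P.obj (op (∏ᶜ fun k => Y (a k)).left) :=
  Pi.π (fun (a : Fin (n + 1) → ι) => P.obj (op (∏ᶜ fun k => Y (a k)).left)) a

theorem cechCxMap_π {P Q : Cᵒᵖ ⥤ AddCommGrpCat.{w}} (φ : P ⟶ Q) (Y : ι → Over U) {n : ℕ}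
    (a : Fin (n + 1) → ι) (x : (cechCx P Y).X n) :
    (cechπ Q Y a).hom (((cechCxMap φ Y).f n).hom x) = (φ.app _).hom ((cechπ P Y a).hom x) := by
  have : (cechCxMap φ Y).f n ≫ cechπ Q Y a = cechπ P Y a ≫ φ.app _ :=
    Limits.Pi.map_π (fun (a : Fin (n + 1) → ι) => φ.app (op (∏ᶜ fun k => Y (a k)).left)) a
  exact congrArg (fun t => AddCommGrpCat.Hom.hom t x) this

theorem cech_ext {P : Cᵒᵖ ⥤ AddCommGrpCat.{w}} {Y : ι → Over U} {n : ℕ}
    (x y : (cechCx P Y).X n) (h : ∀ a : Fin (n + 1) → ι, (cechπ P Y a).hom x = (cechπ P Y a).hom y) : x = y :=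
  pi_ext (X := fun (a : Fin (n + 1) → ι) => P.obj (op (∏ᶜ fun k => Y (a k)).left)) x y h

theorem cech_exists {P : Cᵒᵖ ⥤ AddCommGrpCat.{w}} {Y : ι → Over U} {n : ℕ}
    (x : ∀ a : Fin (n + 1) → ι, P.obj (op (∏ᶜ fun k => Y (a k)).left)) :
    ∃ y : (cechCx P Y).X n, ∀ a : Fin (n + 1) → ι, (cechπ P Y a).hom y = x a :=
  exists_pi (X := fun (a : Fin (n + 1) → ι) => P.obj (op (∏ᶜ fun k => Y (a k)).left)) x

/-- Elementwise criterion for the vanishing of Čech cohomology in positive degrees. -/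
theorem isZero_cechH_iff (P : Cᵒᵖ ⥤ AddCommGrpCat.{w}) (Y : ι → Over U) (p : ℕ) :
    IsZero (EtCech.cechH Y P (p + 1)) ↔
      ∀ x : (cechCx P Y).X (p + 1), ((cechCx P Y).d (p + 1) (p + 2)).hom x = 0 →
        ∃ y : (cechCx P Y).X p, ((cechCx P Y).d p (p + 1)).hom y = x := by
  change IsZero ((cechCx P Y).homology (p + 1)) ↔ _
  rw [← HomologicalComplex.exactAt_iff_isZero_homology,
    HomologicalComplex.exactAt_iff' _ p (p + 1) (p + 2) (by simp) (by simp), ShortComplex.ab_exact_iff]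
  rfl

/-- The `j`-th face `Y_{b_0} × ... × Y_{b_{p+1}} ⟶ Y_{b_0} × .. (omit j) .. × Y_{b_{p+1}}`. -/
noncomputable def face (Y : ι → Over U) {p : ℕ} (b : Fin (p + 2) → ι) (j : Fin (p + 2)) :
    (∏ᶜ fun k => Y (b k)) ⟶ (∏ᶜ fun k => Y ((b ∘ j.succAbove) k)) :=
  Pi.lift (fun k => Pi.π (fun k => Y (b k)) (j.succAbove k))

theorem face_π (Y : ι → Over U) {p : ℕ} (b : Fin (p + 2) → ι) (j : Fin (p + 2))
    (k : Fin (p + 1)) : face Y b j ≫ Pi.π (fun k => Y ((b ∘ j.succAbove) k)) k =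
      Pi.π (fun k => Y (b k)) (j.succAbove k) := Pi.lift_π _ _

section

variable (P : Cᵒᵖ ⥤ AddCommGrpCat.{w}) (Y : ι → Over U)

/-- Terms of Mathlib's Čech complex. -/
noncomputable abbrev CX (p : ℕ) : AddCommGrpCat.{w} :=
  ∏ᶜ fun (a : Fin (p + 1) → ι) => P.obj (op (∏ᶜ fun k => Y (a k)).left)

/-- Mathlib's face maps. -/
noncomputable def CD (p : ℕ) (j : Fin (p + 2)) : CX P Y p ⟶ CX P Y (p + 1) :=
  Pi.lift fun b => Pi.π (fun (a : Fin (p + 1) → ι) => P.obj (op (∏ᶜ fun k => Y (a k)).left)) (b ∘ j.succAbove) ≫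
    P.map (face Y b j).left.op

theorem cech_d (p : ℕ) : (cechCx P Y).d p (p + 1) =
    (∑ j : Fin (p + 2), (-1 : ℤ) ^ (j : ℕ) • CD P Y p j : CX P Y p ⟶ CX P Y (p + 1)) := by
  exact (CochainComplex.of_d
    (fun n => (((FormalCoproduct.cosimplicialObjectFunctor
      (FormalCoproduct.mk _ Y).cech).obj ((Over.forget U).op ⋙ P) : CosimplicialObject AddCommGrpCat.{w})).obj ⦋n⦌)
    (AlgebraicTopology.AlternatingCofaceMapComplex.objD _) p).trans rfl

theorem sum_hom_apply {A B : AddCommGrpCat.{w}} {κ : Type*} (s : Finset κ) (f : κ → (A ⟶ B)) (x : A) :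
    (∑ j ∈ s, f j).hom x = ∑ j ∈ s, (f j).hom x :=
  map_sum ({ toFun := fun g => g.hom x, map_zero' := rfl, map_add' := fun _ _ => rfl } :
    (A ⟶ B) →+ B) f s

/-- The Čech differential, elementwise. -/
theorem cech_d_π (p : ℕ) (x : (cechCx P Y).X p) (b : Fin (p + 2) → ι) :
    (cechπ P Y b).hom (((cechCx P Y).d p (p + 1)).hom x) =
      ∑ j : Fin (p + 2), (-1 : ℤ) ^ (j : ℕ) •
        (P.map (face Y b j).left.op).hom ((cechπ P Y (b ∘ j.succAbove)).hom x) := by
  rw [cech_d]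
  refine (congrArg (cechπ P Y b).hom (sum_hom_apply _ _ x)).trans ?_
  rw [map_sum]
  refine Finset.sum_congr rfl fun j _ => ?_
  have h1 : CD P Y p j ≫ Pi.π (fun (a : Fin (p + 2) → ι) => P.obj (op (∏ᶜ fun k => Y (a k)).left)) b =
      Pi.π (fun (a : Fin (p + 1) → ι) => P.obj (op (∏ᶜ fun k => Y (a k)).left)) (b ∘ j.succAbove) ≫
        P.map (face Y b j).left.op := Pi.lift_π _ _
  have h2 := congrArg (fun t => AddCommGrpCat.Hom.hom t x) h1
  refine (congrArg (cechπ P Y b).hom (a₂ := (-1 : ℤ) ^ (j : ℕ) • (CD P Y p j).hom x) rfl).trans ?_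
  refine (map_zsmul (cechπ P Y b).hom ((-1 : ℤ) ^ (j : ℕ)) ((CD P Y p j).hom x)).trans ?_
  exact congrArg (fun t => (-1 : ℤ) ^ (j : ℕ) • t) h2

/-- The maps of Čech complexes commute with the differentials. -/
theorem cech_comm {P Q : Cᵒᵖ ⥤ AddCommGrpCat.{w}} (φ : P ⟶ Q) (Y : ι → Over U)
    (a b : ℕ) (z : (cechCx P Y).X a) :
    ((cechCxMap φ Y).f b).hom (((cechCx P Y).d a b).hom z) =
      ((cechCx Q Y).d a b).hom (((cechCxMap φ Y).f a).hom z) :=
  (congrArg (fun t => AddCommGrpCat.Hom.hom t z) ((cechCxMap φ Y).comm a b)).symm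

theorem cech_dd (a b c : ℕ) (z : (cechCx P Y).X a) :
    ((cechCx P Y).d b c).hom (((cechCx P Y).d a b).hom z) = 0 :=
  congrArg (fun t => AddCommGrpCat.Hom.hom t z) ((cechCx P Y).d_comp_d a b c)

end

section Sections

variable {J : GrothendieckTopology C}

omit [HasFiniteProducts (Over U)] in
theorem injective_app {F G : Sheaf J AddCommGrpCat.{w}} (f : F ⟶ G) [Mono f.hom] (U : Cᵒᵖ) :
    Function.Injective (f.hom.app U).hom := by
  rw [← AddCommGrpCat.mono_iff_injective]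
  infer_instance

variable (S : ShortComplex (Sheaf J AddCommGrpCat.{w}))

/-- The properties of a short exact sequence of abelian sheaves which we use: injectivity of
`X₁ ⟶ X₂` on sections, exactness on sections in the middle, local surjectivity of `X₂ ⟶ X₃`. -/
structure SES : Prop where
  inj : ∀ (V : C) (x : S.X₁.obj.obj (op V)), (S.f.hom.app (op V)).hom x = 0 → x = 0
  mid : ∀ (V : C) (x : S.X₂.obj.obj (op V)), (S.g.hom.app (op V)).hom x = 0 →
    ∃ y : S.X₁.obj.obj (op V), (S.f.hom.app (op V)).hom y = x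
  surj : ∀ (V : C) (s : S.X₃.obj.obj (op V)), Presheaf.imageSieve S.g.hom s ∈ J V

variable {S}

theorem SES.injective (hS : SES S) (V : C) : Function.Injective (S.f.hom.app (op V)).hom := by
  intro x y hxy
  have := hS.inj V (x - y) (by rw [map_sub, hxy, sub_self])
  exact sub_eq_zero.1 this

theorem SES.cochain_injective (hS : SES S) (Y : ι → Over U) (n : ℕ) {w w' : (cechCx S.X₁.obj Y).X n}
    (h : ((cechCxMap S.f.hom Y).f n).hom w = ((cechCxMap S.f.hom Y).f n).hom w') : w = w' := by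
  refine cech_ext _ _ fun a => hS.injective _ ?_
  rw [← cechCxMap_π, ← cechCxMap_π, h]

theorem SES.exists_cochain_of_map_eq_zero (hS : SES S)
    (Y : ι → Over U) (n : ℕ) (w : (cechCx S.X₂.obj Y).X n)
    (hw : ((cechCxMap S.g.hom Y).f n).hom w = 0) :
    ∃ v : (cechCx S.X₁.obj Y).X n, ((cechCxMap S.f.hom Y).f n).hom v = w := by
  have h : ∀ a : Fin (n + 1) → ι, _ := fun a =>
    hS.mid (∏ᶜ fun k => Y (a k)).left ((cechπ S.X₂.obj Y a).hom w) (by
      have := cechCxMap_π S.g.hom Y a w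
      rw [← this, hw, map_zero])
  choose y hy using h
  obtain ⟨v, hv⟩ := cech_exists (P := S.X₁.obj) (Y := Y) y
  refine ⟨v, cech_ext _ _ fun a => ?_⟩
  rw [cechCxMap_π, hv, hy]

/-- Vanishing of Čech cohomology passes to a quotient. -/
theorem SES.isZero_cechH_quot (hS : SES S) (Y : ι → Over U) (p : ℕ)
    (hsurj : ∀ (a : Fin (p + 2) → ι),
      Function.Surjective (S.g.hom.app (op (∏ᶜ fun k => Y (a k)).left)).hom)
    (h₂ : IsZero (EtCech.cechH Y S.X₂.obj (p + 1))) (h₁ : IsZero (EtCech.cechH Y S.X₁.obj (p + 2))) :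
    IsZero (EtCech.cechH Y S.X₃.obj (p + 1)) := by
  rw [isZero_cechH_iff] at h₁ h₂ ⊢
  intro x hx
  have hzero : ∀ (n : ℕ) (w : (cechCx S.X₁.obj Y).X n),
      ((cechCxMap S.g.hom Y).f n).hom (((cechCxMap S.f.hom Y).f n).hom w) = 0 := by
    intro n w
    refine cech_ext _ _ fun a => ?_
    rw [cechCxMap_π, cechCxMap_π, map_zero]
    have : S.f.hom ≫ S.g.hom = 0 := congrArg (fun t => t.hom) S.zero
    exact congrArg (fun t => (t.app _).hom ((cechπ S.X₁.obj Y a).hom w)) this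
  -- lift `x` to `y`
  have h : ∀ a : Fin (p + 2) → ι, _ := fun a => hsurj a ((cechπ S.X₃.obj Y a).hom x)
  choose y' hy' using h
  obtain ⟨y, hy⟩ := cech_exists (P := S.X₂.obj) (Y := Y) y'
  have hyx : ((cechCxMap S.g.hom Y).f (p + 1)).hom y = x :=
    cech_ext _ _ fun a => by rw [cechCxMap_π, hy, hy']
  obtain ⟨z, hz⟩ := hS.exists_cochain_of_map_eq_zero Y (p + 2)
    (((cechCx S.X₂.obj Y).d (p + 1) (p + 2)).hom y) (by
    rw [cech_comm, hyx, hx])
  obtain ⟨w, hw⟩ := h₁ z (hS.cochain_injective Y _ (by rw [cech_comm, hz, cech_dd, map_zero]))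
  obtain ⟨v, hv⟩ := h₂ (y - ((cechCxMap S.f.hom Y).f (p + 1)).hom w) (by
    rw [map_sub, ← hz, ← hw, cech_comm, sub_self])
  refine ⟨((cechCxMap S.g.hom Y).f p).hom v, ?_⟩
  rw [← cech_comm, hv, map_sub, hyx, hzero, sub_zero]

/-- Degree zero cocycles of the Čech complex of a sheaf for a covering family are global sections. -/
theorem exists_of_cocycle_zero (F : Sheaf J AddCommGrpCat.{w}) (Y : ι → Over U)
    (hY : Sieve.ofArrows (fun i => (Y i).left) (fun i => (Y i).hom) ∈ J U)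
    (x : (cechCx F.obj Y).X 0) (hx : ((cechCx F.obj Y).d 0 1).hom x = 0) :
    ∃ t : F.obj.obj (op U), ∀ a : Fin 1 → ι,
      (cechπ F.obj Y a).hom x = (F.obj.map (∏ᶜ fun k => Y (a k)).hom.op).hom t := by
  let s : ∀ i : ι, Y i ⟶ ∏ᶜ fun k : Fin 1 => Y ((fun _ : Fin 1 => i) k) := fun i => Pi.lift (fun _ => 𝟙 _)
  let xi : ∀ i : ι, F.obj.obj (op (Y i).left) := fun i =>
    (F.obj.map (s i).left.op).hom ((cechπ F.obj Y (fun _ : Fin 1 => i)).hom x)
  have aux : ∀ (i : ι) (a : Fin 1 → ι) (h : a = fun _ => i) (W : Over U) (r : W ⟶ ∏ᶜ fun k => Y (a k))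
      (q : W ⟶ Y i) (_ : r ≫ Pi.π (fun k => Y (a k)) 0 = q ≫ eqToHom (by rw [h])),
      (F.obj.map r.left.op).hom ((cechπ F.obj Y a).hom x) = (F.obj.map q.left.op).hom (xi i) := by
    intro i a h W r q hr
    subst h
    have : r = q ≫ s i := by
      refine Pi.hom_ext _ _ fun k => ?_
      obtain rfl : k = 0 := Subsingleton.elim _ _
      rw [hr, Category.assoc, Pi.lift_π]
      rfl
    rw [this, Over.comp_left, op_comp, F.obj.map_comp]
    rfl
  obtain ⟨t, ht⟩ := glue F (fun i => (Y i).hom) hY xi (by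
    intro i i' Z p q hpq
    let W : Over U := Over.mk (p ≫ (Y i).hom)
    let p' : W ⟶ Y i := Over.homMk p rfl
    let q' : W ⟶ Y i' := Over.homMk q hpq.symm
    let c : Fin 2 → ι := ![i, i']
    let l : ∀ k : Fin 2, W ⟶ Y (c k) := Fin.cons p' (Fin.cons q' (fun k => k.elim0))
    have h0 := cech_d_π F.obj Y 0 x c
    rw [hx, map_zero, Fin.sum_univ_two] at h0
    have h1 := congrArg (F.obj.map (Pi.lift l).left.op).hom h0
    simp only [Fin.val_zero, pow_zero, one_smul, Fin.val_one, pow_one, neg_smul, map_zero, map_add, map_neg] at h1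
    have e0 := aux i' (c ∘ (0 : Fin 2).succAbove) (by ext k; fin_cases k; rfl) W
      (Pi.lift l ≫ face Y c 0) q' (by
        rw [Category.assoc, face_π, Pi.lift_π]
        exact (Category.comp_id _).symm)
    have e1 := aux i (c ∘ (1 : Fin 2).succAbove) (by ext k; fin_cases k; rfl) W
      (Pi.lift l ≫ face Y c 1) p' (by
        rw [Category.assoc, face_π, Pi.lift_π]
        exact (Category.comp_id _).symm)
    have e0' : ∀ j : Fin 2, (F.obj.map (Pi.lift l ≫ face Y c j).left.op).hom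
        ((cechπ F.obj Y (c ∘ j.succAbove)).hom x) = (F.obj.map (Pi.lift l).left.op).hom
          ((F.obj.map (face Y c j).left.op).hom ((cechπ F.obj Y (c ∘ j.succAbove)).hom x)) := by
      intro j
      rw [Over.comp_left, op_comp, F.obj.map_comp]
      rfl
    rw [e0'] at e0 e1
    rw [e0, e1] at h1
    exact (neg_add_eq_zero.1 ((add_comm _ _).trans h1.symm)))
  refine ⟨t, fun a => ?_⟩
  obtain ⟨i, rfl⟩ : ∃ i, a = fun _ => i := ⟨a 0, by ext k; rw [Subsingleton.elim k 0]⟩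
  have h := aux i (fun _ => i) rfl _ (𝟙 _) (Pi.π _ 0) (by simp)
  rw [← ht i] at h
  simp only [Over.id_left, op_id, F.obj.map_id] at h
  refine Eq.trans h ?_
  rw [← Over.w (Pi.π (fun k : Fin 1 => Y ((fun _ => i) k)) 0), op_comp, F.obj.map_comp]
  rfl

omit J in
/-- The degree zero cochain attached to a section over `U` is a cocycle. -/
theorem cocycle_of_section (P : Cᵒᵖ ⥤ AddCommGrpCat.{w}) (Y : ι → Over U)
    (t : P.obj (op U)) (x : (cechCx P Y).X 0)
    (hx : ∀ a : Fin 1 → ι, (cechπ P Y a).hom x = (P.map (∏ᶜ fun k => Y (a k)).hom.op).hom t) :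
    ((cechCx P Y).d 0 1).hom x = 0 := by
  refine cech_ext _ _ fun b => ?_
  rw [map_zero, cech_d_π, Fin.sum_univ_two, hx, hx]
  have h : ∀ j : Fin 2, (P.map (face Y b j).left.op).hom
      ((P.map (∏ᶜ fun k => Y ((b ∘ j.succAbove) k)).hom.op).hom t) =
        (P.map (∏ᶜ fun k => Y (b k)).hom.op).hom t := by
    intro j
    rw [← Over.w (face Y b j), op_comp, P.map_comp]
    rfl
  rw [h, h]
  simp

omit [HasFiniteProducts (Over U)] in
/-- Two sections over `U` of a sheaf which agree on all the `∏ᶜ (Y (a k))`, `a : Fin 1 → ι`, are equal. -/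
theorem section_ext (F : Sheaf J AddCommGrpCat.{w}) (Y : ι → Over U)
    (hY : Sieve.ofArrows (fun i => (Y i).left) (fun i => (Y i).hom) ∈ J U) (t t' : F.obj.obj (op U))
    (h : ∀ a : Fin 1 → ι, (F.obj.map (∏ᶜ fun k => Y (a k)).hom.op).hom t =
      (F.obj.map (∏ᶜ fun k => Y (a k)).hom.op).hom t') : t = t' := by
  refine eq_of_cover F (fun i => (Y i).hom) hY t t' fun i => ?_
  let s : Y i ⟶ ∏ᶜ fun k : Fin 1 => Y ((fun _ : Fin 1 => i) k) := Pi.lift (fun _ => 𝟙 _)
  have := congrArg (F.obj.map s.left.op).hom (h fun _ => i)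
  rw [← Over.w s, op_comp, F.obj.map_comp]
  exact this

/-- If `Ȟ¹` of the kernel vanishes for a family contained in the sieve of local liftability, sections lift. -/
theorem SES.exists_lift (hS : SES S) (s : S.X₃.obj.obj (op U)) (Y : ι → Over U)
    (hYT : ∀ i, (Presheaf.imageSieve S.g.hom s).arrows (Y i).hom)
    (hYc : Sieve.ofArrows (fun i => (Y i).left) (fun i => (Y i).hom) ∈ J U)
    (hH : IsZero (EtCech.cechH Y S.X₁.obj 1)) :
    ∃ t : S.X₂.obj.obj (op U), (S.g.hom.app (op U)).hom t = s := by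
  have h1 : ∀ a : Fin 1 → ι, ∃ y : S.X₂.obj.obj (op (∏ᶜ fun k => Y (a k)).left),
      (S.g.hom.app _).hom y = (S.X₃.obj.map (∏ᶜ fun k => Y (a k)).hom.op).hom s := by
    intro a
    obtain ⟨y, hy⟩ := hYT (a 0)
    refine ⟨(S.X₂.obj.map (Pi.π (fun k => Y (a k)) 0).left.op).hom y, ?_⟩
    have e1 := ConcreteCategory.congr_hom (S.g.hom.naturality (Pi.π (fun k => Y (a k)) 0).left.op) y
    refine Eq.trans e1 ?_
    refine Eq.trans (congrArg (S.X₃.obj.map (Pi.π (fun k => Y (a k)) 0).left.op).hom hy) ?_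
    rw [← Over.w (Pi.π (fun k => Y (a k)) 0), op_comp, S.X₃.obj.map_comp]
    rfl
  choose y hy using h1
  obtain ⟨x, hx⟩ := cech_exists (P := S.X₂.obj) (Y := Y) y
  have hdx : ((cechCxMap S.g.hom Y).f 1).hom (((cechCx S.X₂.obj Y).d 0 1).hom x) = 0 := by
    rw [cech_comm]
    refine cocycle_of_section _ Y s _ fun a => ?_
    rw [cechCxMap_π, hx, hy]
  obtain ⟨z, hz⟩ := hS.exists_cochain_of_map_eq_zero Y 1 _ hdx
  obtain ⟨w, hw⟩ := (isZero_cechH_iff _ Y 0).1 hH z (hS.cochain_injective Y _ (by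
    rw [cech_comm, hz, cech_dd, map_zero]))
  obtain ⟨t, ht⟩ := exists_of_cocycle_zero S.X₂ Y hYc (x - ((cechCxMap S.f.hom Y).f 0).hom w) (by
    rw [map_sub, ← cech_comm, hw, hz, sub_self])
  refine ⟨t, section_ext S.X₃ Y hYc _ _ fun a => ?_⟩
  have e1 := ConcreteCategory.congr_hom (S.g.hom.naturality (∏ᶜ fun k => Y (a k)).hom.op) t
  refine Eq.trans e1.symm ?_
  refine Eq.trans (congrArg (S.g.hom.app _).hom (ht a).symm) ?_
  rw [map_sub, map_sub, hx, hy, cechCxMap_π, sub_eq_self]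
  have : S.f.hom ≫ S.g.hom = 0 := congrArg (fun t => t.hom) S.zero
  exact congrArg (fun t => (t.app _).hom ((cechπ S.X₁.obj Y a).hom w)) this

end Sections

end K152.CechGen
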