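import Groth.Agent.EtBase.K152.CechGen
import Mathlib.CategoryTheory.Limits.Preserves.Shapes.Over
import Mathlib.CategoryTheory.Limits.Preserves.Shapes.Products

/-!
# Čech cohomology of a presheaf composed with a functor preserving finite limits

`isZero_cechH_comp`: if `K : C ⥤ D` induces functors `Over U ⥤ Over (K U)` preserving finite products, then
vanishing of `Ȟ^{p+1}(K(Y), P)` implies that of `Ȟ^{p+1}(Y, P ∘ K)`.
-/

set_option autoImplicit false

universe w v u v' u'

open CategoryTheory Limits Opposite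

namespace K152.CechPush

open K152.CechGen

variable {C : Type u} [Category.{v} C] {D : Type u'} [Category.{v'} D] (K : C ⥤ D) {U : C}
  [HasFiniteProducts (Over U)] [HasFiniteProducts (Over (K.obj U))] {ι : Type w}

/-- The image of a family. -/
abbrev fam (Y : ι → Over U) : ι → Over (K.obj U) := fun i => (Over.post K).obj (Y i)

variable (Y : ι → Over U)

/-- The comparison morphism from the image of the product. -/
noncomputable abbrev cmp {n : ℕ} (a : Fin n → ι) :
    (Over.post K).obj (∏ᶜ fun k => Y (a k)) ⟶ ∏ᶜ fun k => fam K Y (a k) :=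
  piComparison (Over.post K) (fun k => Y (a k))

theorem cmp_face {p : ℕ} (b : Fin (p + 2) → ι) (j : Fin (p + 2)) :
    cmp K Y b ≫ face (fam K Y) b j = (Over.post K).map (face Y b j) ≫ cmp K Y (b ∘ j.succAbove) := by
  refine Pi.hom_ext _ _ fun k => ?_
  have h1 : cmp K Y (b ∘ j.succAbove) ≫ Pi.π (fun k => fam K Y ((b ∘ j.succAbove) k)) k =
      (Over.post K).map (Pi.π (fun k => Y ((b ∘ j.succAbove) k)) k) := piComparison_comp_π _ _ _
  have h2 : cmp K Y b ≫ Pi.π (fun k => fam K Y (b k)) (j.succAbove k) =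
      (Over.post K).map (Pi.π (fun k => Y (b k)) (j.succAbove k)) := piComparison_comp_π _ _ _
  rw [Category.assoc, Category.assoc, h1, face_π, h2, ← Functor.map_comp, face_π]

variable [∀ {n : ℕ} (a : Fin n → ι), IsIso (cmp K Y a)] (P : Dᵒᵖ ⥤ AddCommGrpCat.{w})

theorem map_inv_map {n : ℕ} (a : Fin n → ι) (x : P.obj (op (K.obj (∏ᶜ fun k => Y (a k)).left))) :
    (P.map (cmp K Y a).left.op).hom ((P.map (inv (cmp K Y a)).left.op).hom x) = x := by
  have h : (inv (cmp K Y a)).left.op ≫ (cmp K Y a).left.op = 𝟙 _ := by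
    rw [← op_comp, ← Over.comp_left, IsIso.hom_inv_id]; rfl
  change ((P.map (inv (cmp K Y a)).left.op) ≫ (P.map (cmp K Y a).left.op)).hom x = x
  rw [← P.map_comp, h, P.map_id]
  rfl

theorem map_map_inv {n : ℕ} (a : Fin n → ι) (x : P.obj (op (∏ᶜ fun k => fam K Y (a k)).left)) :
    (P.map (inv (cmp K Y a)).left.op).hom ((P.map (cmp K Y a).left.op).hom x) = x := by
  have h : (cmp K Y a).left.op ≫ (inv (cmp K Y a)).left.op = 𝟙 _ := by
    rw [← op_comp, ← Over.comp_left, IsIso.inv_hom_id]; rfl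
  change ((P.map (cmp K Y a).left.op) ≫ (P.map (inv (cmp K Y a)).left.op)).hom x = x
  rw [← P.map_comp, h, P.map_id]
  rfl

/-- Coordinates of cochains. -/
noncomputable abbrev co (p : ℕ) (x : (cechCx (K.op ⋙ P) Y).X p) (a : Fin (p + 1) → ι) :
    P.obj (op (K.obj (∏ᶜ fun k => Y (a k)).left)) := (cechπ (K.op ⋙ P) Y a).hom x

/-- `x` and `x'` correspond. -/
def Rel (p : ℕ) (x : (cechCx (K.op ⋙ P) Y).X p) (x' : (cechCx P (fam K Y)).X p) : Prop :=
  ∀ a : Fin (p + 1) → ι, co K Y P p x a = (P.map (cmp K Y a).left.op).hom ((cechπ P (fam K Y) a).hom x')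

theorem exists_rel_left (p : ℕ) (x : (cechCx (K.op ⋙ P) Y).X p) :
    ∃ x' : (cechCx P (fam K Y)).X p, Rel K Y P p x x' := by
  obtain ⟨x', hx'⟩ := cech_exists (P := P) (Y := fam K Y) (n := p)
    (fun a => (P.map (inv (cmp K Y a)).left.op).hom (co K Y P p x a))
  refine ⟨x', fun a => ?_⟩
  rw [hx', map_inv_map]

omit [∀ {n : ℕ} (a : Fin n → ι), IsIso (cmp K Y a)] in
theorem exists_rel_right (p : ℕ) (x' : (cechCx P (fam K Y)).X p) :
    ∃ x : (cechCx (K.op ⋙ P) Y).X p, Rel K Y P p x x' := by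
  obtain ⟨x, hx⟩ := cech_exists (P := K.op ⋙ P) (Y := Y) (n := p)
    (fun a => (P.map (cmp K Y a).left.op).hom ((cechπ P (fam K Y) a).hom x'))
  exact ⟨x, fun a => hx a⟩

omit [∀ {n : ℕ} (a : Fin n → ι), IsIso (cmp K Y a)] in
theorem Rel.unique {p : ℕ} {x y : (cechCx (K.op ⋙ P) Y).X p} {x' : (cechCx P (fam K Y)).X p}
    (h : Rel K Y P p x x') (h' : Rel K Y P p y x') : x = y :=
  cech_ext _ _ fun a => (h a).trans (h' a).symm

theorem Rel.unique' {p : ℕ} {x : (cechCx (K.op ⋙ P) Y).X p} {x' y' : (cechCx P (fam K Y)).X p}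
    (h : Rel K Y P p x x') (h' : Rel K Y P p x y') : x' = y' := by
  refine cech_ext _ _ fun a => ?_
  have h1 := (h a).symm.trans (h' a)
  rw [← map_map_inv K Y P a ((cechπ P (fam K Y) a).hom x'), h1, map_map_inv]

omit [∀ {n : ℕ} (a : Fin n → ι), IsIso (cmp K Y a)] in
theorem Rel.d {p : ℕ} {x : (cechCx (K.op ⋙ P) Y).X p} {x' : (cechCx P (fam K Y)).X p}
    (h : Rel K Y P p x x') : Rel K Y P (p + 1) (((cechCx (K.op ⋙ P) Y).d p (p + 1)).hom x)
      (((cechCx P (fam K Y)).d p (p + 1)).hom x') := by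
  intro b
  refine (cech_d_π (K.op ⋙ P) Y p x b).trans ?_
  rw [cech_d_π P (fam K Y) p x' b, map_sum]
  refine Finset.sum_congr rfl fun j _ => ?_
  rw [map_zsmul]
  congr 1
  have h2 := h (b ∘ j.succAbove)
  change (P.map (K.map (face Y b j).left).op).hom (co K Y P p x (b ∘ j.succAbove)) = _
  rw [h2]
  have h3 := congrArg (fun t => t.left.op) (cmp_face K Y b j)
  have h4 : (face (fam K Y) b j).left.op ≫ (cmp K Y b).left.op =
      (cmp K Y (b ∘ j.succAbove)).left.op ≫ (K.map (face Y b j).left).op := h3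
  change (P.map (cmp K Y (b ∘ j.succAbove)).left.op ≫ P.map (K.map (face Y b j).left).op).hom _ =
    (P.map (face (fam K Y) b j).left.op ≫ P.map (cmp K Y b).left.op).hom _
  rw [← P.map_comp, ← P.map_comp, h4]
  rfl

theorem isZero_cechH_comp (p : ℕ) (h : IsZero (EtCech.cechH (fam K Y) P (p + 1))) :
    IsZero (EtCech.cechH Y (K.op ⋙ P) (p + 1)) := by
  rw [isZero_cechH_iff] at h ⊢
  intro x hx
  obtain ⟨x', hx'⟩ := exists_rel_left K Y P (p + 1) x
  have h0 : Rel K Y P (p + 2) 0 0 := by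
    intro a
    change (cechπ (K.op ⋙ P) Y a).hom 0 = _
    rw [map_zero, map_zero, map_zero]
    rfl
  have hd := hx'.d
  rw [hx] at hd
  obtain ⟨y', hy'⟩ := h x' (hd.unique' K Y P h0)
  obtain ⟨y, hy⟩ := exists_rel_right K Y P p y'
  refine ⟨y, ?_⟩
  have := hy.d
  rw [hy'] at this
  exact this.unique K Y P hx'

end K152.CechPush
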