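import Groth.Agent.Etbase.SiteColim
import Mathlib.CategoryTheory.Limits.Types.Filtered

/-!
# Filtered colimits of sheaves of sets and sections over coherent objects

* `exists_local_lift`, `local_eq`: sections of a filtered colimit of sheaves of sets locally come from a
  stage, and sections at a stage agreeing in the colimit locally agree at a later stage.
* `sec_inj`, `sec_surj`: over members of a `CohBasis` one can remove "locally".
* `preservesColimitsOfShape_sections`: sections over a coherent object commute with filtered colimits.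
-/

set_option autoImplicit false

open CategoryTheory CategoryTheory.Limits Opposite

namespace K152.ColimSheafType

open Groth.Agent.Etbase.SiteColim Groth.Agent.Etbase.ExtColim

universe w v u v' w'

variable {C : Type u} [Category.{v} C] {J : GrothendieckTopology C}
  [HasSheafify J (Type w)] [J.WEqualsLocallyBijective (Type w)]
variable {I : Type w'} [Category.{v'} I]
  [HasColimitsOfShape I (Type w)]

omit [HasSheafify J (Type w)] [J.WEqualsLocallyBijective (Type w)] [HasColimitsOfShape I (Type w)] in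
/-- Elements of a colimit of types come from a stage. -/
theorem rep {F : I ⥤ Type w} {c : Cocone F} (hc : IsColimit c) (x : c.pt) :
    ∃ (i : I) (y : F.obj i), c.ι.app i y = x :=
  Types.jointly_surjective_of_isColimit hc x

section

variable (I) in
/-- Elements with the same image in a filtered colimit of types have the same image at a later stage. -/
def FiltEq : Prop :=
  ∀ (F : I ⥤ Type w) (c : Cocone F) (_ : IsColimit c) (i : I) (x y : F.obj i),
    c.ι.app i x = c.ι.app i y → ∃ (j : I) (f : i ⟶ j), F.map f x = F.map f y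

end

lemma exists_local_lift_aux {F : I ⥤ Sheaf J (Type w)}
    (E : Cocone (F ⋙ sheafToPresheaf J (Type w))) (hE : IsColimit E) {U : C}
    (s : (sheafify J E.pt).obj (op U)) :
    ∃ S ∈ J U, ∀ (V : C) (f : V ⟶ U), S f → ∃ (i : I) (t : (F.obj i).obj.obj (op V)),
      (toSheafify J E.pt).app (op V) ((E.ι.app i).app (op V) t) =
        (sheafify J E.pt).map f.op s := by
  have : Presheaf.IsLocallySurjective J (toSheafify J E.pt) := inferInstance
  refine ⟨Presheaf.imageSieve (toSheafify J E.pt) s, Presheaf.imageSieve_mem J (toSheafify J E.pt) (U := op U) s, ?_⟩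
  intro V f hf
  obtain ⟨x, hx⟩ := hf
  have hc : IsColimit (((evaluation _ _).obj (op V)).mapCocone E) :=
    isColimitOfPreserves _ hE
  obtain ⟨i, t, ht⟩ := rep hc x
  refine ⟨i, t, ?_⟩
  have ht' : (E.ι.app i).app (op V) t = x := ht
  rw [ht']
  exact hx

lemma local_eq_aux (hI : FiltEq.{w} I) {F : I ⥤ Sheaf J (Type w)}
    (E : Cocone (F ⋙ sheafToPresheaf J (Type w))) (hE : IsColimit E) {U : C} (i : I)
    (t t' : (F.obj i).obj.obj (op U))
    (ht : (toSheafify J E.pt).app (op U) ((E.ι.app i).app (op U) t) =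
      (toSheafify J E.pt).app (op U) ((E.ι.app i).app (op U) t')) :
    ∃ S ∈ J U, ∀ (V : C) (f : V ⟶ U), S f → ∃ (j : I) (g : i ⟶ j),
      (F.map g).hom.app (op V) ((F.obj i).obj.map f.op t) =
        (F.map g).hom.app (op V) ((F.obj i).obj.map f.op t') := by
  refine ⟨Presheaf.equalizerSieve ((E.ι.app i).app (op U) t) ((E.ι.app i).app (op U) t'),
    Presheaf.equalizerSieve_mem J (toSheafify J E.pt) _ _ ht, ?_⟩
  intro V f hf
  change E.pt.map f.op ((E.ι.app i).app (op U) t) = E.pt.map f.op ((E.ι.app i).app (op U) t') at hf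
  have h1 : ∀ t, (E.ι.app i).app (op V) ((F.obj i).obj.map f.op t) =
      E.pt.map f.op ((E.ι.app i).app (op U) t) := fun t =>
    congrArg (fun a => a t) ((E.ι.app i).naturality f.op)
  have hc : IsColimit (((evaluation _ _).obj (op V)).mapCocone E) :=
    isColimitOfPreserves _ hE
  obtain ⟨j, g, hg⟩ := hI _ _ hc i ((F.obj i).obj.map f.op t) ((F.obj i).obj.map f.op t') (by
      exact (h1 t).trans (hf.trans (h1 t').symm))
  exact ⟨j, g, hg⟩

omit [J.WEqualsLocallyBijective (Type w)] in
lemma exists_iso {F : I ⥤ Sheaf J (Type w)} {c : Cocone F} (hc : IsColimit c) :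
    ∃ (E : Cocone (F ⋙ sheafToPresheaf J (Type w))) (_ : IsColimit E)
      (a : c.pt.obj ⟶ sheafify J E.pt) (b : sheafify J E.pt ⟶ c.pt.obj),
      a ≫ b = 𝟙 _ ∧ ∀ i, (c.ι.app i).hom ≫ a = E.ι.app i ≫ toSheafify J E.pt := by
  let E := colimit.cocone (F ⋙ sheafToPresheaf J (Type w))
  have hE : IsColimit E := colimit.isColimit _
  let hS := Sheaf.isColimitSheafifyCocone E hE
  let e : c.pt ≅ (Sheaf.sheafifyCocone E).pt := hc.coconePointUniqueUpToIso hS
  have he : ∀ i, c.ι.app i ≫ e.hom = (Sheaf.sheafifyCocone E).ι.app i := fun i =>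
    IsColimit.comp_coconePointUniqueUpToIso_hom _ _ _
  refine ⟨E, hE, e.hom.hom, e.inv.hom, congrArg (fun a => a.hom) e.hom_inv_id, fun i => ?_⟩
  rw [← Sheaf.sheafifyCocone_ι_app_val]
  exact congrArg (fun a => a.hom) (he i)

/-- Sections of a filtered colimit of sheaves locally come from a stage. -/
theorem exists_local_lift {F : I ⥤ Sheaf J (Type w)} {c : Cocone F} (hc : IsColimit c) {U : C}
    (s : c.pt.obj.obj (op U)) :
    ∃ S ∈ J U, ∀ (V : C) (f : V ⟶ U), S f → ∃ (i : I) (t : (F.obj i).obj.obj (op V)),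
      (c.ι.app i).hom.app (op V) t = c.pt.obj.map f.op s := by
  obtain ⟨E, hE, a, b, hab, ha⟩ := exists_iso hc
  obtain ⟨S, hS, h⟩ := exists_local_lift_aux E hE (U := U) (a.app (op U) s)
  refine ⟨S, hS, fun V f hf => ?_⟩
  obtain ⟨i, t, ht⟩ := h V f hf
  refine ⟨i, t, ?_⟩
  have h6 : ∀ x : c.pt.obj.obj (op V), b.app (op V) (a.app (op V) x) = x := fun x =>
    congrArg (fun c => (c.app (op V)) x) hab
  rw [← h6 ((c.ι.app i).hom.app (op V) t), ← h6 (c.pt.obj.map f.op s)]
  congr 1
  have h3 : a.app (op V) ((c.ι.app i).hom.app (op V) t) =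
      (toSheafify J E.pt).app (op V) ((E.ι.app i).app (op V) t) :=
    congrArg (fun c => (c.app (op V)) t) (ha i)
  rw [h3, ht]
  exact (congrArg (fun c => c s) (a.naturality f.op)).symm

/-- Sections at a stage which agree in the filtered colimit locally agree at a later stage. -/
theorem local_eq (hI : FiltEq.{w} I) {F : I ⥤ Sheaf J (Type w)} {c : Cocone F} (hc : IsColimit c)
    {U : C} (i : I) (t t' : (F.obj i).obj.obj (op U))
    (ht : (c.ι.app i).hom.app (op U) t = (c.ι.app i).hom.app (op U) t') :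
    ∃ S ∈ J U, ∀ (V : C) (f : V ⟶ U), S f → ∃ (j : I) (g : i ⟶ j),
      (F.map g).hom.app (op V) ((F.obj i).obj.map f.op t) =
        (F.map g).hom.app (op V) ((F.obj i).obj.map f.op t') := by
  obtain ⟨E, hE, a, b, hab, ha⟩ := exists_iso hc
  refine local_eq_aux hI E hE i t t' ?_
  have h3 : ∀ t, a.app (op U) ((c.ι.app i).hom.app (op U) t) =
      (toSheafify J E.pt).app (op U) ((E.ι.app i).app (op U) t) := fun t =>
    congrArg (fun c => (c.app (op U)) t) (ha i)
  rw [← h3, ht, h3]

section Sections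

variable {U : C} {m : ℕ} {Y : Fin m → Over U}
  (hY : Sieve.ofArrows (fun a => (Y a).left) (fun a => (Y a).hom) ∈ J U)

include hY

omit [HasSheafify J (Type w)] [J.WEqualsLocallyBijective (Type w)] in
lemma sec_ext (F : Sheaf J (Type w)) (s t : F.obj.obj (op U))
    (h : ∀ a, F.obj.map (Y a).hom.op s = F.obj.map (Y a).hom.op t) : s = t := by
  have h1 := ((isSheaf_iff_isSheaf_of_type _ _).1 F.property) _ hY
  rw [Sieve.ofArrows, ← Presieve.isSheafFor_iff_generate, Presieve.isSheafFor_arrows_iff] at h1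
  obtain ⟨r, -, hr⟩ := h1 (fun a => F.obj.map (Y a).hom.op s) (by
    intro a b Z ga gb hab
    have h2 : F.obj.map ga.op (F.obj.map (Y a).hom.op s) =
      F.obj.map gb.op (F.obj.map (Y b).hom.op s) := by
      change (F.obj.map (Y a).hom.op ≫ F.obj.map ga.op) s = (F.obj.map (Y b).hom.op ≫ F.obj.map gb.op) s
      rw [← F.obj.map_comp, ← F.obj.map_comp, ← op_comp, ← op_comp, hab]
    exact h2)
  exact (hr s (fun a => rfl)).trans (hr t (fun a => (h a).symm)).symm

variable [HasPullbacks C]

omit [HasSheafify J (Type w)] [J.WEqualsLocallyBijective (Type w)] in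
lemma sec_glue (F : Sheaf J (Type w)) (s : ∀ a, F.obj.obj (op (Y a).left))
    (h : ∀ a : Fin 2 → Fin m, F.obj.map (Pi.π (fun k => Y (a k)) 0).left.op (s (a 0)) =
      F.obj.map (Pi.π (fun k => Y (a k)) 1).left.op (s (a 1))) :
    ∃ t : F.obj.obj (op U), ∀ a, F.obj.map (Y a).hom.op t = s a := by
  have h1 := ((isSheaf_iff_isSheaf_of_type _ _).1 F.property) _ hY
  rw [Sieve.ofArrows, ← Presieve.isSheafFor_iff_generate, Presieve.isSheafFor_arrows_iff] at h1
  obtain ⟨t, ht, -⟩ := h1 s (by
    intro a b Z ga gb hab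
    let α : Fin 2 → Fin m := ![a, b]
    let L : Over.mk (ga ≫ (Y a).hom) ⟶ ∏ᶜ fun k => Y (α k) :=
      Pi.lift (fun k => Fin.cases (motive := fun k => Over.mk (ga ≫ (Y a).hom) ⟶ Y (α k))
        (Over.homMk ga rfl) (fun k => Fin.cases
          (motive := fun k => Over.mk (ga ≫ (Y a).hom) ⟶ Y (α k.succ))
          (Over.homMk gb hab.symm) (fun k => k.elim0) k) k)
    have hL0 : L ≫ Pi.π (fun k => Y (α k)) 0 = Over.homMk ga rfl := Pi.lift_π _ _
    have hL1 : L ≫ Pi.π (fun k => Y (α k)) 1 = Over.homMk gb hab.symm := Pi.lift_π _ _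
    have hL0' : L.left ≫ (Pi.π (fun k => Y (α k)) 0).left = ga := congrArg (fun f => f.left) hL0
    have hL1' : L.left ≫ (Pi.π (fun k => Y (α k)) 1).left = gb := congrArg (fun f => f.left) hL1
    have h2 := congrArg (fun x => F.obj.map L.left.op x) (h α)
    have e0 : F.obj.map L.left.op (F.obj.map (Pi.π (fun k => Y (α k)) 0).left.op (s (α 0))) =
        F.obj.map ga.op (s a) := by
      have := congrArg (fun f : Z ⟶ (Y (α 0)).left => F.obj.map f.op (s (α 0))) hL0'
      refine Eq.trans ?_ this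
      change _ = F.obj.map (L.left ≫ (Pi.π (fun k => Y (α k)) 0).left).op (s (α 0))
      rw [op_comp, F.obj.map_comp]
      rfl
    have e1 : F.obj.map L.left.op (F.obj.map (Pi.π (fun k => Y (α k)) 1).left.op (s (α 1))) =
        F.obj.map gb.op (s b) := by
      have := congrArg (fun f : Z ⟶ (Y (α 1)).left => F.obj.map f.op (s (α 1))) hL1'
      refine Eq.trans ?_ this
      change _ = F.obj.map (L.left ≫ (Pi.π (fun k => Y (α k)) 1).left).op (s (α 1))
      rw [op_comp, F.obj.map_comp]
      rfl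
    exact e0.symm.trans (h2.trans e1))
  exact ⟨t, ht⟩

end Sections

section Stages

variable [HasPullbacks C] [IsFiltered I]

omit [HasSheafify J (Type w)] [J.WEqualsLocallyBijective (Type w)] [HasPullbacks C] in
lemma app_map' {F G : Sheaf J (Type w)} (φ : F ⟶ G) {U V : C} (f : V ⟶ U)
    (x : F.obj.obj (op U)) :
    φ.hom.app (op V) (F.obj.map f.op x) = G.obj.map f.op (φ.hom.app (op U) x) :=
  congrArg (fun a => a x) (φ.hom.naturality f.op)

omit [HasSheafify J (Type w)] [J.WEqualsLocallyBijective (Type w)] [HasPullbacks C] [IsFiltered I]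
  [HasColimitsOfShape I (Type w)] in
lemma map_map' (F : I ⥤ Sheaf J (Type w)) {i j k : I} (f : i ⟶ j) (g : j ⟶ k) (U : Cᵒᵖ)
    (x : (F.obj i).obj.obj U) :
    (F.map g).hom.app U ((F.map f).hom.app U x) = (F.map (f ≫ g)).hom.app U x := by
  rw [F.map_comp]; rfl

omit [HasSheafify J (Type w)] [J.WEqualsLocallyBijective (Type w)] [HasPullbacks C] [IsFiltered I]
  [HasColimitsOfShape I (Type w)] in
lemma ι_map' {F : I ⥤ Sheaf J (Type w)} (c : Cocone F) {i j : I} (f : i ⟶ j) (U : Cᵒᵖ)
    (x : (F.obj i).obj.obj U) :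
    (c.ι.app j).hom.app U ((F.map f).hom.app U x) = (c.ι.app i).hom.app U x := by
  have := c.w f
  exact congrArg (fun g => (g.hom.app U) x) this

/-- Sections over a coherent object: sections at a stage which agree in the filtered colimit
agree at a later stage. -/
lemma sec_inj (hI : FiltEq.{w} I) {B : Set C} (hB : CohBasis J B) {F : I ⥤ Sheaf J (Type w)}
    {c : Cocone F} (hc : IsColimit c) {U : C}
    (hU : U ∈ B) (i : I) (t t' : (F.obj i).obj.obj (op U))
    (ht : (c.ι.app i).hom.app (op U) t = (c.ι.app i).hom.app (op U) t') :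
    ∃ (j : I) (g : i ⟶ j), (F.map g).hom.app (op U) t = (F.map g).hom.app (op U) t' := by
  obtain ⟨S, hS, h⟩ := local_eq hI hc i t t' ht
  obtain ⟨m, Y, hYS, hY, -⟩ := hB U hU S hS
  choose j g hg using fun a => h _ _ (hYS a)
  obtain ⟨l, g', e, he⟩ := exists_common_stage i j g
  refine ⟨l, e, sec_ext hY (F.obj l) _ _ (fun a => ?_)⟩
  rw [← app_map', ← app_map', ← he a, ← map_map', ← map_map', hg a]

/-- Sections over a coherent object of a filtered colimit come from a stage. -/
lemma sec_surj (hI : FiltEq.{w} I) {B : Set C} (hB : CohBasis J B) {F : I ⥤ Sheaf J (Type w)}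
    {c : Cocone F} (hc : IsColimit c) {U : C}
    (hU : U ∈ B) (s : c.pt.obj.obj (op U)) :
    ∃ (i : I) (t : (F.obj i).obj.obj (op U)), (c.ι.app i).hom.app (op U) t = s := by
  obtain ⟨S, hS, h⟩ := exists_local_lift hc s
  obtain ⟨m, Y, hYS, hY, hYB⟩ := hB U hU S hS
  choose i t ht using fun a => h _ _ (hYS a)
  obtain ⟨j, hj⟩ := exists_common_stage' i
  obtain ⟨t', ht'⟩ : ∃ t' : ∀ a, (F.obj j).obj.obj (op (Y a).left),
      ∀ a, (c.ι.app j).hom.app _ (t' a) = c.pt.obj.map (Y a).hom.op s := by
    refine ⟨fun a => (F.map (hj a).some).hom.app _ (t a), fun a => ?_⟩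
    rw [← ht a]
    exact ι_map' c _ _ _
  -- overlaps
  have hd : ∀ a : Fin 2 → Fin m, ∃ (l : I) (g : j ⟶ l), (F.map g).hom.app _
      ((F.obj j).obj.map (Pi.π (fun k => Y (a k)) 0).left.op (t' (a 0))) =
      (F.map g).hom.app _ ((F.obj j).obj.map (Pi.π (fun k => Y (a k)) 1).left.op (t' (a 1))) := by
    intro a
    apply sec_inj hI hB hc (hYB 1 a)
    rw [app_map', app_map', ht', ht']
    change (c.pt.obj.map (Y (a 0)).hom.op ≫ c.pt.obj.map (Pi.π (fun k => Y (a k)) 0).left.op) s =
      (c.pt.obj.map (Y (a 1)).hom.op ≫ c.pt.obj.map (Pi.π (fun k => Y (a k)) 1).left.op) s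
    rw [← c.pt.obj.map_comp, ← c.pt.obj.map_comp, ← op_comp, ← op_comp, Over.w, Over.w]
  choose l g hg using hd
  obtain ⟨r, g', e, he⟩ := exists_common_stage j l g
  obtain ⟨x, hx⟩ := sec_glue hY (F.obj r) (fun a => (F.map e).hom.app _ (t' a)) (fun a => by
    rw [← app_map', ← app_map', ← he a, ← map_map', ← map_map', hg a])
  refine ⟨r, x, sec_ext hY c.pt _ _ (fun a => ?_)⟩
  rw [← app_map', hx a, ← ht' a]
  exact ι_map' c _ _ _

/-- Sections over a coherent object commute with filtered colimits of sheaves of sets. -/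
theorem preservesColimitsOfShape_sections (hI : FiltEq.{w} I) {B : Set C} (hB : CohBasis J B)
    {U : C} (hU : U ∈ B) :
    PreservesColimitsOfShape I
      (sheafToPresheaf J (Type w) ⋙ (evaluation Cᵒᵖ (Type w)).obj (op U)) where
  preservesColimit {F} := ⟨fun {c} hc => ⟨by
    let G := sheafToPresheaf J (Type w) ⋙ (evaluation Cᵒᵖ (Type w)).obj (op U)
    let d := colimit.cocone (F ⋙ G)
    have hd : IsColimit d := colimit.isColimit _
    let φ : d.pt ⟶ (G.mapCocone c).pt := hd.desc (G.mapCocone c)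
    have hφ : ∀ (i : I) (x : (F ⋙ G).obj i), φ (d.ι.app i x) = (c.ι.app i).hom.app (op U) x :=
      fun i x => congrArg (fun g => g x) (hd.fac (G.mapCocone c) i)
    have hbij : Function.Bijective φ := by
      constructor
      · intro x y hxy
        obtain ⟨i, x', rfl⟩ := rep hd x
        obtain ⟨j, y', rfl⟩ := rep hd y
        rw [hφ, hφ] at hxy
        obtain ⟨k, f, g, -⟩ := IsFilteredOrEmpty.cocone_objs i j
        rw [← ι_map' c f, ← ι_map' c g] at hxy
        obtain ⟨l, h, hl⟩ := sec_inj hI hB hc hU k _ _ hxy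
        have e1 : d.ι.app i x' = d.ι.app l ((F ⋙ G).map h ((F ⋙ G).map f x')) := by
          have a1 := congrArg (fun ψ => ψ ((F ⋙ G).map f x')) (d.w h)
          have a2 := congrArg (fun ψ => ψ x') (d.w f)
          exact (a1.trans a2).symm
        have e2 : d.ι.app j y' = d.ι.app l ((F ⋙ G).map h ((F ⋙ G).map g y')) := by
          have a1 := congrArg (fun ψ => ψ ((F ⋙ G).map g y')) (d.w h)
          have a2 := congrArg (fun ψ => ψ y') (d.w g)
          exact (a1.trans a2).symm
        rw [e1, e2]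
        exact congrArg (d.ι.app l) hl
      · intro s
        obtain ⟨i, t, ht⟩ := sec_surj hI hB hc hU s
        exact ⟨d.ι.app i t, (hφ i t).trans ht⟩
    have : IsIso φ := (isIso_iff_bijective φ).2 hbij
    exact hd.ofIsoColimit (Cocone.ext (asIso φ) (fun i => hd.fac (G.mapCocone c) i))⟩⟩

end Stages

end K152.ColimSheafType
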