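import Groth.Agent.EtBase.K152.EtSliceZ
import Mathlib.AlgebraicGeometry.Morphisms.Etale
import Mathlib.AlgebraicGeometry.Morphisms.Smooth
import Mathlib.AlgebraicGeometry.Morphisms.ClosedImmersion

/-!
# Étale slices through a closed subscheme which is unramified over the base: geometric version
-/

set_option autoImplicit false

namespace K152.EtSliceGeom

open AlgebraicGeometry CategoryTheory Limits

universe u

/-- the ring map attached to a morphism to an affine scheme -/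
noncomputable def ev {T : Scheme.{u}} {R : CommRingCat.{u}} (t : T ⟶ Spec R) : R ⟶ Γ(T, ⊤) :=
  (Scheme.ΓSpecIso R).inv ≫ t.appTop

theorem toSpecΓ_ev {T : Scheme.{u}} {R : CommRingCat.{u}} (t : T ⟶ Spec R) :
    T.toSpecΓ ≫ Spec.map (ev t) = t := by
  rw [ev, Spec.map_comp, ← Scheme.toSpecΓ_naturality_assoc, toSpecΓ_SpecMap_ΓSpecIso_inv,
    Category.comp_id]

theorem ev_comp {T : Scheme.{u}} {R S : CommRingCat.{u}} (t : T ⟶ Spec R) (φ : S ⟶ R) :
    ev (t ≫ Spec.map φ) = φ ≫ ev t := by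
  rw [ev, ev, Scheme.Hom.comp_appTop, ← Scheme.ΓSpecIso_inv_naturality_assoc]

theorem exists_lift_quot {T : Scheme.{u}} {R : Type u} [CommRing R] (J : Ideal R)
    (t : T ⟶ Spec (CommRingCat.of R)) (h : J ≤ RingHom.ker (ev t).hom) :
    ∃ g : T ⟶ Spec (CommRingCat.of (R ⧸ J)),
      g ≫ Spec.map (CommRingCat.ofHom (Ideal.Quotient.mk J)) = t := by
  let ψ : R ⧸ J →+* Γ(T, ⊤) := Ideal.Quotient.lift J (ev t).hom fun a ha => h ha
  refine ⟨T.toSpecΓ ≫ Spec.map (CommRingCat.ofHom ψ), ?_⟩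
  have h1 : CommRingCat.ofHom (Ideal.Quotient.mk J) ≫ CommRingCat.ofHom ψ = ev t := by
    ext a
    rfl
  rw [Category.assoc, ← Spec.map_comp, h1, toSpecΓ_ev]

theorem exists_slice {X Y Z : Scheme.{u}} (f : X ⟶ Y) [Smooth f] (i : Z ⟶ X) [IsClosedImmersion i]
    [FormallyUnramified (i ≫ f)] (z : Z) :
    ∃ (U : X.Opens) (_ : i.base z ∈ U) (W : Scheme.{u}) (j : W ⟶ (U : Scheme.{u})) (_ : IsClosedImmersion j)
      (_ : Etale (j ≫ U.ι ≫ f)) (g : ((i ⁻¹ᵁ U : Z.Opens) : Scheme.{u}) ⟶ W), g ≫ j = i ∣_ U := by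
  obtain ⟨_, ⟨U₀, hU₀, rfl⟩, hxU, -⟩ :=
    Y.isBasis_affineOpens.exists_subset_of_mem_open (Set.mem_univ (f (i z))) isOpen_univ
  obtain ⟨_, ⟨V, hV, rfl⟩, hxV, hVU⟩ :=
    X.isBasis_affineOpens.exists_subset_of_mem_open hxU (U₀.2.preimage f.continuous)
  have e : V ≤ f ⁻¹ᵁ U₀ := hVU
  have hsm := f.smooth_appLE hU₀ hV e
  have hZ : IsAffineOpen (i ⁻¹ᵁ V) := hV.preimage i
  have hsurj : Function.Surjective (i.app V).hom := i.app_surjective V hV
  let A := Γ(Y, U₀)
  let B := Γ(X, V)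
  algebraize [(f.appLE U₀ V e).hom]
  let K : Ideal B := RingHom.ker (i.app V).hom
  have hunr : Algebra.FormallyUnramified A (B ⧸ K) := by
    have h1 : ((i ≫ f).appLE U₀ (i ⁻¹ᵁ V) (fun x hx => e hx)).hom.FormallyUnramified :=
      (i ≫ f).formallyUnramified_appLE hU₀ hZ _
    have h2 : (i ≫ f).appLE U₀ (i ⁻¹ᵁ V) (fun x hx => e hx) = f.appLE U₀ V e ≫ i.app V := by
      rw [Scheme.Hom.app_eq_appLE, Scheme.Hom.appLE_comp_appLE]
    rw [h2, CommRingCat.hom_comp] at h1
    let eK : (B ⧸ K) ≃+* Γ(Z, i ⁻¹ᵁ V) := RingHom.quotientKerEquivOfSurjective hsurj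
    have h3 : (algebraMap A (B ⧸ K)) = (eK.symm : Γ(Z, i ⁻¹ᵁ V) →+* (B ⧸ K)).comp
        ((i.app V).hom.comp (f.appLE U₀ V e).hom) := by
      ext a
      change Ideal.Quotient.mk K (f.appLE U₀ V e a) = eK.symm ((i.app V).hom (f.appLE U₀ V e a))
      rw [RingEquiv.eq_symm_apply]
      rfl
    rw [← RingHom.formallyUnramified_algebraMap, h3]
    exact h1.comp (RingHom.FormallyUnramified.of_surjective eK.symm.surjective)
  let q := hV.primeIdealOf ⟨i z, hxV⟩
  have hqz : hV.fromSpec q = i z := hV.fromSpec_primeIdealOf ⟨i z, hxV⟩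
  have hq : q.asIdeal.IsPrime := q.isPrime
  have hKq : K ≤ q.asIdeal := by
    intro b hb
    by_contra hbq
    have h1 : q ∈ PrimeSpectrum.basicOpen b := hbq
    rw [← hV.fromSpec_preimage_basicOpen b] at h1
    have h2 : i z ∈ X.basicOpen b := by
      rw [← hqz]; exact h1
    have h3 : z ∈ i ⁻¹ᵁ X.basicOpen b := h2
    rw [Scheme.preimage_basicOpen, show i.app V b = 0 from hb, Scheme.basicOpen_zero] at h3
    exact h3
  obtain ⟨g, J, hg, hJ, het⟩ := EtSliceZ.exists_slice A B q.asIdeal K hKq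
  let Bg := Localization.Away g
  let u : Spec (CommRingCat.of Bg) ⟶ X :=
    Spec.map (CommRingCat.ofHom (algebraMap B Bg)) ≫ hV.fromSpec
  have hu1 : IsOpenImmersion (Spec.map (CommRingCat.ofHom (algebraMap B Bg))) :=
    IsOpenImmersion.of_isLocalization g
  have hu : IsOpenImmersion u := inferInstance
  have hmem : i z ∈ u.opensRange := by
    have h1 : q ∈ Set.range (PrimeSpectrum.comap (algebraMap B Bg)) := by
      rw [PrimeSpectrum.localization_away_comap_range Bg g]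
      exact hg
    obtain ⟨q', hq'⟩ := h1
    refine ⟨q', ?_⟩
    rw [← hqz, ← hq']
    rfl
  let j₀ : Spec (CommRingCat.of (Bg ⧸ J)) ⟶ Spec (CommRingCat.of Bg) :=
    Spec.map (CommRingCat.ofHom (Ideal.Quotient.mk J))
  have hj₀ : IsClosedImmersion j₀ :=
    IsClosedImmersion.spec_of_surjective _ Ideal.Quotient.mk_surjective
  refine ⟨u.opensRange, hmem, Spec (CommRingCat.of (Bg ⧸ J)), j₀ ≫ u.isoOpensRange.hom,
    inferInstance, ?_, ?_⟩
  · have h1 : (j₀ ≫ u.isoOpensRange.hom) ≫ u.opensRange.ι ≫ f =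
        Spec.map (CommRingCat.ofHom (algebraMap A (Bg ⧸ J))) ≫ hU₀.fromSpec := by
      rw [Category.assoc, ← Category.assoc u.isoOpensRange.hom, Scheme.Hom.isoOpensRange_hom_ι]
      change Spec.map _ ≫ (Spec.map _ ≫ hV.fromSpec) ≫ f = _
      rw [Category.assoc, ← IsAffineOpen.SpecMap_appLE_fromSpec f hU₀ hV e, ← Category.assoc,
        ← Spec.map_comp, ← Category.assoc, ← Spec.map_comp]
      rfl
    rw [h1]
    have : Etale (Spec.map (CommRingCat.ofHom (algebraMap A (Bg ⧸ J)))) := by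
      rw [HasRingHomProperty.Spec_iff (P := @Etale)]
      exact RingHom.etale_algebraMap.mpr het
    infer_instance
  · let T : Scheme.{u} := (i ⁻¹ᵁ u.opensRange : Z.Opens)
    let t : T ⟶ Spec (CommRingCat.of Bg) := (i ∣_ u.opensRange) ≫ u.isoOpensRange.inv
    have ht : t ≫ u = (i ⁻¹ᵁ u.opensRange).ι ≫ i := by
      rw [Category.assoc, Scheme.Hom.isoOpensRange_inv_comp, morphismRestrict_ι]
    have hle : u.opensRange ≤ V := by
      rintro _ ⟨p, rfl⟩
      change hV.fromSpec (Spec.map _ p) ∈ V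
      exact hV.range_fromSpec.subset ⟨_, rfl⟩
    have hrange : Set.range (i ⁻¹ᵁ u.opensRange).ι ⊆ Set.range hZ.fromSpec := by
      rw [hZ.range_fromSpec, Scheme.Opens.range_ι]
      exact fun x hx => hle hx
    let r : T ⟶ Spec Γ(Z, i ⁻¹ᵁ V) := IsOpenImmersion.lift hZ.fromSpec (i ⁻¹ᵁ u.opensRange).ι hrange
    have hr : r ≫ hZ.fromSpec = (i ⁻¹ᵁ u.opensRange).ι := IsOpenImmersion.lift_fac _ _ _
    have hs : t ≫ Spec.map (CommRingCat.ofHom (algebraMap B Bg)) = r ≫ Spec.map (i.app V) := by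
      rw [← cancel_mono hV.fromSpec, Category.assoc, ht, Category.assoc, Scheme.Hom.app_eq_appLE,
        IsAffineOpen.SpecMap_appLE_fromSpec i hV hZ, ← Category.assoc r, hr]
    have hker : J ≤ RingHom.ker (ev t).hom := by
      refine hJ.trans (Ideal.map_le_iff_le_comap.mpr fun b hb => ?_)
      have h1 : CommRingCat.ofHom (algebraMap B Bg) ≫ ev t = i.app V ≫ ev r := by
        rw [← ev_comp, hs, ev_comp]
      change (ev t).hom (algebraMap B Bg b) = 0
      have h2 := congr($h1 b)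
      rw [CommRingCat.comp_apply, CommRingCat.comp_apply, show i.app V b = 0 from hb, map_zero] at h2
      exact h2
    obtain ⟨g', hg'⟩ := exists_lift_quot J t hker
    refine ⟨g', ?_⟩
    calc g' ≫ j₀ ≫ u.isoOpensRange.hom
        = (g' ≫ j₀) ≫ u.isoOpensRange.hom := (Category.assoc _ _ _).symm
      _ = t ≫ u.isoOpensRange.hom := by rw [hg']
      _ = i ∣_ u.opensRange := by
          rw [Category.assoc, Iso.inv_hom_id, Category.comp_id]

end K152.EtSliceGeom
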