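import Groth.Agent.FlatA.EtaleSlice

/-!
# Étale slices through a closed subscheme which is unramified over the base
-/

set_option autoImplicit false

namespace K152.EtSliceZ

open TensorProduct KaehlerDifferential Groth.Agent.FlatA.EtaleSlice

universe u

/-- If `B ⧸ I` is formally unramified over `A` then `Ω[B/A]` is generated by the differentials of elements
of `I` and by `I Ω[B/A]`. -/
theorem span_D_sup (A B : Type*) [CommRing A] [CommRing B] [Algebra A B] (I : Ideal B)
    [Algebra.FormallyUnramified A (B ⧸ I)] :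
    Submodule.span B (D A B '' (I : Set B)) ⊔ I • (⊤ : Submodule B Ω[B⁄A]) = ⊤ := by
  rw [eq_top_iff]
  intro ω _
  have hsurj : Function.Surjective (algebraMap B (B ⧸ I)) := Ideal.Quotient.mk_surjective
  have hex := exact_kerCotangentToTensor_mapBaseChange A B (B ⧸ I) hsurj
  obtain ⟨y, hy⟩ := (hex ((1 : B ⧸ I) ⊗ₜ[B] ω)).mp (Subsingleton.elim _ _)
  obtain ⟨⟨x, hx⟩, rfl⟩ := Ideal.toCotangent_surjective _ y
  rw [kerCotangentToTensor_toCotangent] at hy
  have hx' : x ∈ I := by
    have h1 : Ideal.Quotient.mk I x = 0 := hx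
    rwa [Ideal.Quotient.eq_zero_iff_mem] at h1
  have h2 : ω - D A B x ∈ LinearMap.ker (TensorProduct.mk B (B ⧸ I) Ω[B⁄A] 1) := by
    rw [LinearMap.mem_ker, map_sub, sub_eq_zero]
    exact hy.symm
  rw [LinearMap.ker_tensorProductMk] at h2
  have h3 : ω = D A B x + (ω - D A B x) := by abel
  rw [h3]
  exact Submodule.add_mem_sup (Submodule.subset_span ⟨x, hx', rfl⟩) h2

theorem span_D_ideal_eq_top (A B L : Type*) [CommRing A] [CommRing B] [CommRing L]
    [Algebra A B] [Algebra B L] [Algebra A L] [IsScalarTower A B L] (q : Ideal B) [q.IsPrime]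
    [IsLocalRing L] [IsLocalization.AtPrime L q] [Module.Finite L Ω[L⁄A]]
    (I : Ideal B) (hI : I ≤ q) [Algebra.FormallyUnramified A (B ⧸ I)] :
    Submodule.span L (Set.range fun b : I ↦ D A L (algebraMap B L b)) = ⊤ := by
  rw [eq_top_iff]
  refine Submodule.le_of_le_smul_of_le_jacobson_bot (I := IsLocalRing.maximalIdeal L)
    Module.Finite.fg_top (IsLocalRing.maximalIdeal_le_jacobson _) ?_
  set N : Submodule L Ω[L⁄A] := Submodule.span L (Set.range fun b : I ↦ D A L (algebraMap B L b)) ⊔
    IsLocalRing.maximalIdeal L • (⊤ : Submodule L Ω[L⁄A]) with hN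
  -- the image of `Ω[B/A]` lies in `N`
  have h1 : ∀ ω : Ω[B⁄A], map A A B L ω ∈ N := by
    intro ω
    have hle : (⊤ : Submodule B Ω[B⁄A]) ≤ (N.restrictScalars B).comap (map A A B L) := by
      rw [← span_D_sup A B I, sup_le_iff]
      constructor
      · rw [Submodule.span_le]
        rintro _ ⟨b, hb, rfl⟩
        change map A A B L (D A B b) ∈ N
        rw [map_D]
        exact Submodule.mem_sup_left (Submodule.subset_span ⟨⟨b, hb⟩, rfl⟩)
      · rw [Submodule.smul_le]
        intro b hb ω' _
        change map A A B L (b • ω') ∈ N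
        rw [map_smul, ← algebraMap_smul L b (map A A B L ω')]
        refine Submodule.mem_sup_right (Submodule.smul_mem_smul ?_ Submodule.mem_top)
        exact (IsLocalization.AtPrime.to_map_mem_maximal_iff L q b).mpr (hI hb)
    exact hle Submodule.mem_top
  intro ω _
  obtain ⟨⟨ω', s⟩, hs⟩ := IsLocalizedModule.surj q.primeCompl (map A A B L) ω
  have h2 : (algebraMap B L s) • ω = map A A B L ω' := by
    rw [← hs]
    exact algebraMap_smul L (s : B) ω
  obtain ⟨v, hv⟩ := IsLocalization.map_units L s
  rw [← hv] at h2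
  have h3 : ω = (↑v⁻¹ : L) • map A A B L ω' := by
    rw [← h2, smul_smul, Units.inv_mul, one_smul]
  rw [h3]
  exact N.smul_mem _ (h1 ω')

/-- A smooth algebra `B` with an ideal `I` contained in a prime `q` such that `B ⧸ I` is formally unramified over
the base has an étale slice through `q` containing the closed subset `V(I)`. -/
theorem exists_slice (A B : Type u) [CommRing A] [CommRing B] [Algebra A B] [Algebra.Smooth A B]
    (q : Ideal B) [q.IsPrime] (K : Ideal B) (hK : K ≤ q) [Algebra.FormallyUnramified A (B ⧸ K)] :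
    ∃ (g : B) (J : Ideal (Localization.Away g)), g ∉ q ∧
      J ≤ K.map (algebraMap B (Localization.Away g)) ∧
      Algebra.Etale A (Localization.Away g ⧸ J) := by
  have hspan := span_D_ideal_eq_top A B (Localization.AtPrime q) q K hK
  have : Module.FinitePresentation (Localization.AtPrime q) Ω[Localization.AtPrime q⁄A] :=
    Module.finitePresentation_of_projective _ _
  obtain ⟨κ, a, b, hb⟩ := Module.exists_basis_of_span_of_flat _ hspan
  let e : (κ →₀ B) →ₗ[B] Ω[B⁄A] :=
    Finsupp.linearCombination B fun i : κ ↦ D A B (a i)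
  let l₁ : (κ →₀ B) →ₗ[B] (κ →₀ Localization.AtPrime q) :=
    Finsupp.mapRange.linearMap (Algebra.linearMap B (Localization.AtPrime q))
  let l₂ : Ω[B⁄A] →ₗ[B] Ω[Localization.AtPrime q⁄A] := map A A B (Localization.AtPrime q)
  let eₚ : (κ →₀ Localization.AtPrime q) →ₗ[Localization.AtPrime q] Ω[Localization.AtPrime q⁄A] :=
    IsLocalizedModule.mapExtendScalars q.primeCompl l₁ l₂ (Localization.AtPrime q) e
  have : eₚ = b.repr.symm := by
    ext i
    trans IsLocalizedModule.map q.primeCompl l₁ l₂ e <| l₁ <| Finsupp.single i 1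
    · simp [eₚ, -IsLocalizedModule.map_apply, l₁]
    · simp [l₂, e, hb]
  have heₚ : Function.Bijective eₚ := this ▸ b.repr.symm.bijective
  have : Finite κ := Module.Finite.finite_basis b
  obtain ⟨g, hg, h⟩ := Module.FinitePresentation.exists_notMem_bijective e q l₁ l₂ heₚ
  let l₁ₜ : (κ →₀ B) →ₗ[B] (κ →₀ Localization.Away g) :=
    Finsupp.mapRange.linearMap (Algebra.linearMap B _)
  let l₂ₜ : Ω[B⁄A] →ₗ[B] Ω[Localization.Away g⁄A] :=
    map A A B (Localization.Away g)
  rw [← IsLocalizedModule.map_bijective_iff_localizedModuleMap_bijective l₁ₜ l₂ₜ] at h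
  let eₜ' : (κ →₀ Localization.Away g) →ₗ[Localization.Away g] Ω[Localization.Away g⁄A] :=
    IsLocalizedModule.mapExtendScalars (Submonoid.powers g) l₁ₜ l₂ₜ (Localization.Away g) e
  have h' : Function.Bijective eₜ' := h
  have heₜ : ∀ i, eₜ' (Finsupp.single i 1) = D A _ (algebraMap B (Localization.Away g) (a i)) := by
    intro i
    trans IsLocalizedModule.map (Submonoid.powers g) l₁ₜ l₂ₜ e <| l₁ₜ <| Finsupp.single i 1
    · simp [eₜ', -IsLocalizedModule.map_apply, l₁ₜ]
    · simp [l₂ₜ, e]
  let P := MvPolynomial κ A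
  let φ : P →ₐ[A] Localization.Away g :=
    MvPolynomial.aeval fun i ↦ algebraMap B (Localization.Away g) (a i)
  algebraize [φ.toRingHom]
  have hφ : ∀ i, algebraMap P (Localization.Away g) (MvPolynomial.X i) =
      algebraMap B (Localization.Away g) (a i) := fun i ↦ MvPolynomial.aeval_X _ i
  have : IsScalarTower A P (Localization.Away g) := .of_algebraMap_eq' φ.comp_algebraMap.symm
  have hbij : Function.Bijective (mapBaseChange A P (Localization.Away g)) := by
    let bb := (mvPolynomialBasis A κ).baseChange (Localization.Away g)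
    have hcomp : (mapBaseChange A P (Localization.Away g)) ∘ₗ bb.repr.symm.toLinearMap = eₜ' := by
      ext i
      simp [bb, hφ, heₜ, -MvPolynomial.algebraMap_eq, P]
    have : Function.Bijective ((mapBaseChange A P (Localization.Away g)) ∘ₗ
        bb.repr.symm.toLinearMap) := hcomp ▸ h'
    rw [LinearMap.coe_comp] at this
    exact (Function.Bijective.of_comp_iff _ bb.repr.symm.bijective).mp this
  have : Algebra.FormallyEtale P (Localization.Away g) :=
    formallyEtale_of_mapBaseChange_bijective A P (Localization.Away g) hbij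
  have : Algebra.FinitePresentation P (Localization.Away g) :=
    .of_restrict_scalars_finitePresentation A P _
  have : Algebra.Etale P (Localization.Away g) := {}
  let ε : P →ₐ[A] A := MvPolynomial.aeval fun _ ↦ 0
  have hε : Function.Surjective ε := fun x ↦ ⟨algebraMap A P x, by simp⟩
  let I : Ideal P := RingHom.ker ε
  refine ⟨g, I.map (algebraMap P (Localization.Away g)), hg, ?_, ?_⟩
  · rw [Ideal.map_le_iff_le_comap]
    intro x hx
    have hcomp : (Ideal.Quotient.mkₐ A (K.map (algebraMap B (Localization.Away g)))).comp φ =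
        (Algebra.ofId A _).comp ε := by
      ext i
      have h0 : Ideal.Quotient.mk (K.map (algebraMap B (Localization.Away g)))
          (algebraMap B (Localization.Away g) (a i)) = 0 :=
        Ideal.Quotient.eq_zero_iff_mem.mpr (Ideal.mem_map_of_mem _ (a i).2)
      simpa [φ, ε, P] using h0
    have h1 := DFunLike.congr_fun hcomp x
    have h2 : ε x = 0 := hx
    simp only [AlgHom.coe_comp, Function.comp_apply, h2, map_zero] at h1
    change φ x ∈ K.map (algebraMap B (Localization.Away g))
    exact Ideal.Quotient.eq_zero_iff_mem.mp h1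
  · have e₁ : (P ⧸ I) ≃ₐ[A] A := Ideal.quotientKerAlgEquivOfSurjective hε
    have : Algebra.Etale A (P ⧸ I) := .of_equiv e₁.symm
    have h1 : Algebra.Etale (P ⧸ I) ((P ⧸ I) ⊗[P] Localization.Away g) := inferInstance
    have e₂ := (Algebra.TensorProduct.quotIdealMapEquivQuotTensor (Localization.Away g) I).symm
    have : Algebra.Etale (P ⧸ I) (Localization.Away g ⧸ I.map (algebraMap P (Localization.Away g))) :=
      Algebra.Etale.of_equiv (A := (P ⧸ I) ⊗[P] Localization.Away g) e₂
    have : IsScalarTower A (P ⧸ I)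
        (Localization.Away g ⧸ I.map (algebraMap P (Localization.Away g))) :=
      IsScalarTower.of_algebraMap_eq (R := A) (S := P ⧸ I)
        (A := Localization.Away g ⧸ I.map (algebraMap P (Localization.Away g))) fun x ↦ by
        change Ideal.Quotient.mk _ (algebraMap A (Localization.Away g) x) =
          Ideal.Quotient.mk _ (algebraMap P (Localization.Away g) (algebraMap A P x))
        rw [← IsScalarTower.algebraMap_apply A P (Localization.Away g)]
    exact .comp A (P ⧸ I) _

end K152.EtSliceZ
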