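import Mathlib.RingTheory.AdjoinRoot
import Mathlib.RingTheory.Flat.Stability
import Mathlib.RingTheory.Flat.Basic
import Mathlib.RingTheory.Localization.Integral
import Mathlib.RingTheory.FinitePresentation
import Mathlib.RingTheory.SurjectiveOnStalks
import Mathlib.LinearAlgebra.Basis.VectorSpace
import Mathlib.FieldTheory.IntermediateField.Basic

/-!
# Realising a finite extension of a residue field by a finite free algebra

`exists_flat`: if `φ : A → K` is a ring homomorphism to a field such that every element of `K` is a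
fraction of elements of the image, and `ℓ / K` is a finite extension, there is a flat finitely presented
`A`-algebra `B` and `ψ : B → ℓ` over `φ` such that every element of `ℓ` is a fraction of images of `ψ`.
-/

set_option autoImplicit false
universe u

open Polynomial

namespace K152.ResExt

section

variable {A : Type u} [CommRing A] {ℓ : Type u} [CommRing ℓ] [Algebra A ℓ]

/-- Integral elements lie in the image of a flat finitely presented algebra. -/
theorem exists_adjoin (T : Finset ℓ) (hT : ∀ y ∈ T, IsIntegral A y) :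
    ∃ (B : Type u) (_ : CommRing B) (_ : Algebra A B) (ψ : B →ₐ[A] ℓ),
      Module.Flat A B ∧ Algebra.FinitePresentation A B ∧ ∀ y ∈ T, y ∈ ψ.range := by
  classical
  induction T using Finset.induction_on with
  | empty =>
    exact ⟨A, inferInstance, inferInstance, Algebra.ofId A ℓ, inferInstance, inferInstance,
      fun y hy => absurd hy (Finset.notMem_empty y)⟩
  | insert y T _ ih =>
    obtain ⟨B, _, _, ψ, h1, h2, h3⟩ := ih fun z hz => hT z (Finset.mem_insert_of_mem hz)
    obtain ⟨F, hF, hFy⟩ := hT y (Finset.mem_insert_self y T)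
    have hm : (F.map (algebraMap A B)).Monic := hF.map _
    let B' := AdjoinRoot (F.map (algebraMap A B))
    have hev : (F.map (algebraMap A B)).eval₂ (ψ : B →+* ℓ) y = 0 := by
      rw [eval₂_map]
      have : (ψ : B →+* ℓ).comp (algebraMap A B) = algebraMap A ℓ := ψ.comp_algebraMap
      rw [this]
      exact hFy
    let ψ₀ : B' →+* ℓ := AdjoinRoot.lift (ψ : B →+* ℓ) y hev
    have hψ₀ : ∀ b : B, ψ₀ (algebraMap B B' b) = ψ b := fun b => AdjoinRoot.lift_of hev
    let ψ' : B' →ₐ[A] ℓ := { ψ₀ with
      commutes' := fun a => by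
        change ψ₀ (algebraMap A B' a) = _
        rw [IsScalarTower.algebraMap_apply A B B', hψ₀, ψ.commutes] }
    have : Module.Free B B' := hm.free_adjoinRoot
    have h4 : Module.Flat B B' := inferInstance
    have h5 : Module.Flat A B' := Module.Flat.trans A B B'
    have h6 : Algebra.FinitePresentation A B' := inferInstance
    refine ⟨B', inferInstance, inferInstance, ψ', h5, h6, fun z hz => ?_⟩
    rcases Finset.mem_insert.1 hz with rfl | hz
    · exact ⟨AdjoinRoot.root _, AdjoinRoot.lift_root hev⟩
    · obtain ⟨b, hb⟩ := h3 z hz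
      exact ⟨algebraMap B B' b, (hψ₀ b).trans hb⟩

end

section

variable {A K ℓ : Type u} [CommRing A] [Field K] [Field ℓ] [Algebra K ℓ] [Module.Finite K ℓ]
  (φ : A →+* K) (hφ : ∀ x : K, ∃ r s : A, φ s ≠ 0 ∧ φ s * x = φ r)

include hφ in
/-- Every element of `ℓ` becomes integral over `A` after multiplication by an element of `A`. -/
theorem exists_mul_integral [Algebra A ℓ] (hA : algebraMap A ℓ = (algebraMap K ℓ).comp φ) (y : ℓ) :
    ∃ s : A, φ s ≠ 0 ∧ IsIntegral A (algebraMap A ℓ s * y) := by
  let R := φ.range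
  let i : R →+* K := φ.range.subtype
  have hfr : IsFractionRing R K := by
    have hinj : Function.Injective (algebraMap R K) := Subtype.val_injective
    refine IsFractionRing.of_field R K fun x => ?_
    obtain ⟨r, s, hs, h⟩ := hφ x
    refine ⟨⟨φ r, r, rfl⟩, ⟨φ s, s, rfl⟩, ?_⟩
    change x = φ r / φ s
    rw [← h]
    field_simp
  have hint : IsIntegral K y := Algebra.IsIntegral.isIntegral y
  let _ : Algebra R ℓ := ((algebraMap K ℓ).comp i).toAlgebra
  have : IsScalarTower R K ℓ := IsScalarTower.of_algebraMap_eq fun _ => rfl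
  obtain ⟨⟨m, hm⟩, h⟩ :=
    IsIntegral.exists_multiple_integral_of_isLocalization (nonZeroDivisors R) (Rₘ := K) y hint
  obtain ⟨_, s, rfl⟩ := m
  refine ⟨s, ?_, ?_⟩
  · have := nonZeroDivisors.ne_zero hm
    intro h0
    exact this (Subtype.ext h0)
  · let _ : Algebra A R := φ.rangeRestrict.toAlgebra
    have : IsScalarTower A R ℓ := IsScalarTower.of_algebraMap_eq fun a => by
      rw [hA]; rfl
    have h2 : Algebra.IsIntegral A R := ⟨fun x => by
      obtain ⟨_, a, rfl⟩ := x
      exact isIntegral_algebraMap (R := A) (A := R) (x := a)⟩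
    have h3 := isIntegral_trans (R := A) (A := R) _ h
    have h4 : ((⟨⟨φ s, s, rfl⟩, hm⟩ : nonZeroDivisors R) • y : ℓ) = algebraMap A ℓ s * y := by
      rw [hA]; rfl
    rw [h4] at h3
    exact h3

include hφ in
/-- Realisation of a finite extension by a flat finitely presented algebra. -/
theorem exists_flat :
    ∃ (B : Type u) (_ : CommRing B) (_ : Algebra A B) (ψ : B →+* ℓ),
      Module.Flat A B ∧ Algebra.FinitePresentation A B ∧
      ψ.comp (algebraMap A B) = (algebraMap K ℓ).comp φ ∧
      ∀ x : ℓ, ∃ r s : B, ψ s ≠ 0 ∧ ψ s * x = ψ r := by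
  classical
  let _ : Algebra A ℓ := ((algebraMap K ℓ).comp φ).toAlgebra
  have hA : algebraMap A ℓ = (algebraMap K ℓ).comp φ := rfl
  let b := Module.finBasis K ℓ
  choose s hs hint using fun i => exists_mul_integral φ hφ hA (b i)
  obtain ⟨B, _, _, ψ, h1, h2, h3⟩ := exists_adjoin (Finset.univ.image fun i => algebraMap A ℓ (s i) * b i)
    (fun y hy => by
      obtain ⟨i, -, rfl⟩ := Finset.mem_image.1 hy
      exact hint i)
  refine ⟨B, inferInstance, inferInstance, ψ, h1, h2, ψ.comp_algebraMap, fun x => ?_⟩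
  have hne : ∀ a : A, φ a ≠ 0 → algebraMap A ℓ a ≠ 0 := fun a ha => by
    rw [hA, RingHom.comp_apply]
    exact (_root_.map_ne_zero _).2 ha
  have hψ : ∀ a : A, ψ (algebraMap A B a) = algebraMap A ℓ a := ψ.commutes
  have hx : x ∈ Submodule.span K (Set.range b) := by rw [b.span_eq]; trivial
  change ∃ r s : B, ψ s ≠ 0 ∧ ψ s * x = ψ r
  induction hx using Submodule.span_induction with
  | mem x hx =>
    obtain ⟨i, rfl⟩ := hx
    obtain ⟨r, hr⟩ := h3 _ (Finset.mem_image_of_mem _ (Finset.mem_univ i))
    refine ⟨r, algebraMap A B (s i), ?_, ?_⟩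
    · rw [hψ]; exact hne _ (hs i)
    · rw [hψ]; exact hr.symm
  | zero => exact ⟨0, 1, by simp, by simp⟩
  | add x y _ _ hx hy =>
    obtain ⟨r, t, ht, h⟩ := hx
    obtain ⟨r', t', ht', h'⟩ := hy
    refine ⟨t' * r + t * r', t * t', ?_, ?_⟩
    · rw [map_mul]; exact mul_ne_zero ht ht'
    · rw [map_mul, map_add, map_mul, map_mul, ← h, ← h']; ring
  | smul c x _ hx =>
    obtain ⟨r, t, ht, h⟩ := hx
    obtain ⟨a, a', ha', hc⟩ := hφ c
    refine ⟨algebraMap A B a * r, algebraMap A B a' * t, ?_, ?_⟩
    · rw [map_mul, hψ]; exact mul_ne_zero (hne _ ha') ht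
    · rw [map_mul, map_mul, hψ, hψ, ← h, hA, RingHom.comp_apply, RingHom.comp_apply, ← hc, map_mul,
        Algebra.smul_def]
      ring

end

end K152.ResExt
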